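import Cfsg.Agent.U43Type.Cert.Cent.FactsData
import Cfsg.Agent.U43Type.Cert.Cent.JustData
import Cfsg.Agent.CosetCert.CoxExtra
import Cfsg.Agent.CosetCert.Pack
import Cfsg.Agent.U43Type.Cert.Cent.TableData

/-! Generated: the certificate. -/

set_option maxRecDepth 100000

namespace Cfsg.Agent.U43Type.Cert.Cent

open Cfsg.Agent.CosetCert

noncomputable def data : Data where
  K := 8
  n := 1152
  M := 2128
  Nf := 7547
  nR := 23
  iv := fun x => if x < 4 then x + 4 else if x < 8 then x - 4 else x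
  F := get48 factStore
  J := getVar justStore
  E := get48 edgeStore
  L := get48 repStore
  P := get48 treeStore
  W := [
    [0, 0, 0],
    [1, 1, 1, 1],
    [0, 1, 0, 1, 0, 1],
    [0, 5, 0, 5, 0, 5, 0, 5, 0, 5, 0, 5],
    [2, 2],
    [3, 3, 1, 1],
    [0, 1, 1, 4, 1, 1],
    [2, 0, 2, 0, 2, 4, 2, 4],
    [2, 0, 2, 1, 2, 4, 2, 5],
    [2, 1, 2, 1, 2, 5, 2, 5],
    [2, 1, 1, 2, 1, 1],
    [3, 0, 7, 4, 1, 4],
    [3, 1, 7, 1],
    [2, 3, 2, 7, 5, 5],
    [],
    [0, 4],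
    [1, 5],
    [2, 6],
    [3, 7],
    [4, 0],
    [5, 1],
    [6, 2],
    [7, 3]]
  PW := fun k => Nat.land (Nat.shiftRight 0x88000000000000006700000000000000460000000000000025000000000000010400000000000000e300000000000000c200000000000000a10000000000000000000000000c640c830000000000012044000000000a22a024000000000421884300000030cc310c4300000030ca310c2300000028ca308c230000000004228841000000000001088400000000000000630304c1304c1304c1000000000411044100000000000108420000000000000421 (Nat.mul 64 k)) 0xffffffffffffffff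
  powers := [
    ([0, 0, 0], 1),
    ([1, 1, 1, 1], 1),
    ([0, 1, 0, 1, 0, 1], 1),
    ([0, 5, 0, 5, 0, 5, 0, 5, 0, 5, 0, 5], 1),
    ([2, 2], 1),
    ([3, 3, 1, 1], 1),
    ([0, 1, 1, 4, 1, 1], 1),
    ([2, 0, 2, 0, 2, 4, 2, 4], 1),
    ([2, 0, 2, 1, 2, 4, 2, 5], 1),
    ([2, 1, 2, 1, 2, 5, 2, 5], 1),
    ([2, 1, 1, 2, 1, 1], 1),
    ([3, 0, 7, 4, 1, 4], 1),
    ([3, 1, 7, 1], 1),
    ([2, 3, 2, 7, 5, 5], 1),
    ([], 1),
    ([0, 4], 1),
    ([1, 5], 1),
    ([2, 6], 1),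
    ([3, 7], 1),
    ([4, 0], 1),
    ([5, 1], 1),
    ([6, 2], 1),
    ([7, 3], 1)]

/-- The relators as words in letters `2k`, `2k+1`. -/
def rels : List (List Nat) := [[0, 0, 0], [2, 2, 2, 2], [0, 2, 0, 2, 0, 2], [0, 3, 0, 3, 0, 3, 0, 3, 0, 3, 0, 3], [4, 4], [6, 6, 2, 2], [0, 2, 2, 1, 2, 2], [4, 0, 4, 0, 4, 1, 4, 1], [4, 0, 4, 2, 4, 1, 4, 3], [4, 2, 4, 2, 4, 3, 4, 3], [4, 2, 2, 4, 2, 2], [6, 0, 7, 1, 2, 1], [6, 2, 7, 2], [4, 6, 4, 7, 3, 3]]

/-- The subgroup's generators. -/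
def subLetters : List (Fin 4) := []

/-- A letter as a signed generator. -/
def sl (x : Nat) : Fin 4 × Bool := (Fin.ofNat 4 (x / 2), Nat.beq (x % 2) 0)

/-- The relators as signed words. -/
def relWords : List (List (Fin 4 × Bool)) := rels.map (List.map sl)

/-- The numbering of the generators. -/
def enc (b : Fin 4) : Nat := b.val

/-- The generator of a number. -/
def dec (x : Nat) : Fin 4 × Bool := if x < 4 then (Fin.ofNat 4 x, true) else (Fin.ofNat 4 x, false)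

end Cfsg.Agent.U43Type.Cert.Cent
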